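import Cfsg.Agent.Helper43.PsuM.RDefs

/-!
# S2089, block I-odd (`p`-part of the multiplier of `SU_{2m+1}(q)`): abstract data

`SiegelCore G p` / `SiegelData G p` axiomatise what the generic argument needs from the Siegel-type parabolic of
`G = SU_{2m+1}(q)`: `U = Q ⋊ US` (`Q` the unipotent radical, `Z = Z(Q)`, `US` the unipotent subgroup of
the Levi factor `SL_m(K)`), the diagonal torus `T`, the subgroup `H ≅ SU_{2m}(q)` (stabiliser of the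
middle basis vector; perfect and centrally closed) containing `Z` and `L ≅ SL_m(K) ≥ US`, generating families
`Y i` of `Q` modulo `Z`, `X r` of `Z`, `S` of `US`, and the torus elements used to kill the
`A`-valued pairings.
-/

set_option autoImplicit false

namespace Cfsg.Agent.Helper58.PsuIo

open scoped commutatorElement

universe u

/-- abstract data of the Siegel-type parabolic of `SU_{2m+1}(q)`, without the subgroup `H` -/
structure SiegelCore (G : Type u) [Group G] (p : ℕ) where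
  /-- the full unipotent subgroup -/
  U : Subgroup G
  /-- the diagonal torus -/
  T : Subgroup G
  /-- the unipotent radical of the parabolic -/
  Q : Subgroup G
  /-- the centre of `Q` -/
  Z : Subgroup G
  /-- the unipotent subgroup of the Levi factor -/
  US : Subgroup G
  /-- the derived group `SL_m(K)` of the Levi factor -/
  L : Subgroup G
  /-- index set of the root families of `Q` modulo `Z` -/
  ι : Type
  /-- index set of the root subgroups of `Z` -/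
  ρ : Type
  /-- the root families of `Q` modulo `Z` -/
  Y : ι → Set G
  /-- the root subgroups of `Z` -/
  X : ρ → Subgroup G
  /-- generators of `US` -/
  S : Set G
  T_comm : ∀ a ∈ T, ∀ b ∈ T, a * b = b * a
  T_card : ¬ p ∣ Nat.card T
  idx : ¬ p ∣ (U ⊔ T).index
  U_eq : Q ⊔ US = U
  Q_inf_US : Q ⊓ US = ⊥
  L_Q : ∀ s ∈ L, ∀ x ∈ Q, s * x * s⁻¹ ∈ Q
  L_Z : ∀ s ∈ L, ∀ z ∈ Z, s * z * s⁻¹ ∈ Z
  Z_le_Q : Z ≤ Q
  comm_Q : ⁅Q, Q⁆ ≤ Z
  Z_central : ∀ z ∈ Z, ∀ x ∈ Q, Commute z x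
  T_Q : ∀ t ∈ T, ∀ x ∈ Q, t * x * t⁻¹ ∈ Q
  T_Z : ∀ t ∈ T, ∀ x ∈ Z, t * x * t⁻¹ ∈ Z
  T_US : ∀ t ∈ T, ∀ x ∈ US, t * x * t⁻¹ ∈ US
  US_le_L : US ≤ L
  Y_sub : ∀ i, Y i ⊆ (Q : Set G)
  Q_gen : Q ≤ Z ⊔ Subgroup.closure (⋃ i, Y i)
  X_le : ∀ r, X r ≤ Z
  Z_gen : Z ≤ ⨆ r, X r
  S_gen : US = Subgroup.closure S
  /-- every `Y i` lies in `⁅T, Q⁆ Z` -/
  hT : ∀ i, ∀ x ∈ Y i, ∃ h ∈ T, ∃ x' ∈ Q, ∃ z' ∈ Z, x = ⁅h, x'⁆ * z'
  /-- for `(O1)`: a torus element centralising `X r` and fixed-point-free on `Y i` modulo `Z` -/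
  hO1 : ∀ i r, ∃ h ∈ T, (∀ z ∈ X r, h * z * h⁻¹ = z) ∧
    ∀ x ∈ Y i, ∃ x' ∈ Q, ∃ z' ∈ Z, x = ⁅h, x'⁆ * z'
  /-- for `(O2)`, `i ≠ j`: a torus element trivial on `Y j` modulo `Z` and fixed-point-free on `Y i`
  modulo `Z` -/
  hO2a : ∀ i j, i ≠ j → ∃ h ∈ T, (∀ x ∈ Y j, ⁅h, x⁆ ∈ Z) ∧
    ∀ x ∈ Y i, ∃ x' ∈ Q, ∃ z' ∈ Z, x = ⁅h, x'⁆ * z'
  /-- for `(O2)`, the diagonal terms: an element of `L` mixing `Y i` into `Y i · Y j` -/
  hO2b : ∀ j, ∀ xj ∈ Y j, ∀ xj' ∈ Y j, ∃ i, i ≠ j ∧ ∃ s ∈ L, ∃ xi ∈ Y i, ∃ xi' ∈ Y i,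
    ∃ z ∈ Z, ∃ z' ∈ Z, s * xi * s⁻¹ = xi * xj * z ∧ s * xi' * s⁻¹ = xi' * xj' * z'
  /-- for `(O3)`: every generator of `US` commutes with a subtorus that is fixed-point-free on all
  `Y i` modulo `Z` -/
  hO3 : ∀ g ∈ S, ∃ Hg : Subgroup G, Hg ≤ T ∧ (∀ h ∈ Hg, Commute g h) ∧
    ∀ i, ∀ x ∈ Y i, ∃ h ∈ Hg, ∃ x' ∈ Q, ∃ z' ∈ Z, x = ⁅h, x'⁆ * z'

/-- `SiegelCore` together with the subgroup `H ≅ SU_{2m}(q)` (stabiliser of the middle basis vector), perfect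
and centrally closed, containing `Z` and `L` and normalised by `T` -/
structure SiegelData (G : Type u) [Group G] (p : ℕ) extends SiegelCore G p where
  /-- the stabiliser of the middle basis vector -/
  H : Subgroup G
  T_H : ∀ t ∈ T, ∀ x ∈ H, t * x * t⁻¹ ∈ H
  Z_le_H : Z ≤ H
  L_le_H : L ≤ H
  H_perf : ⁅H, H⁆ = H
  H_univ : ∀ (E : Type u) [Group E] (π : E →* ↥H), Function.Surjective π →
    π.ker ≤ Subgroup.center E → ∃ s : ↥H →* E, π.comp s = MonoidHom.id ↥H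

end Cfsg.Agent.Helper58.PsuIo
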