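import Mathlib
import Cfsg.Agent.Helper43.PsuM.EvDefs

/-!
# S2089 block I-odd: the model `SUo m σ` of `SU_{2m+1}(q)` (definitions)

`F` a field, `σ : F →+* F` (an involution in the applications).  `SUo m σ` is the group of matrices of
determinant one over `(Fin m ⊕ Fin m) ⊕ Unit` (basis `e_i`, `f_i`, `w`) preserving the hermitian form with
matrix `Jo = [[0, 1, 0], [1, 0, 0], [0, 0, 1]]`: `gᵀ * Jo * σ(g) = Jo` (the convention of
`Cfsg.Agent.Helper43.PsuM.Ev.SUe`, which embeds by `emb g = [[g, 0], [0, 1]]`).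

* `qO σ y B = [[1, B, y], [0, 1, 0], [0, -σ(y)ᵀ, 1]]` for `QP σ y B` (`σ(B) + Bᵀ + σ(y) yᵀ = 0`): the
  unipotent radical `Qsub` of the stabiliser of `⟨e_1, …, e_m⟩`; `qO σ 0 B = emb (qE σ B)`;
* `tO σ d = diag (d, σ(d)⁻¹, cw σ d)`, `cw σ d = ∏ σ(d i) / ∏ d i`: the diagonal torus `Tsub`;
* `Zsub`, `USsub`, `Hsub`: the images under `emb` of `Ev.Qsub`, `Ev.USsub`, `⊤`; `Usub = Qsub ⊔ USsub`.
-/

set_option autoImplicit false

namespace Cfsg.Agent.Helper58.PsuIo.Od

open Matrix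
open Cfsg.Agent.Helper43.PsuM

variable {F : Type*} [Field F] {m : ℕ}

/-- the index type: `e_i = inl (inl i)`, `f_i = inl (inr i)`, `w = inr ()` -/
abbrev Idx (m : ℕ) : Type := (Fin m ⊕ Fin m) ⊕ Unit

/-- the matrix of the hermitian form -/
def Jo (m : ℕ) (F : Type*) [Field F] : Matrix (Idx m) (Idx m) F :=
  fromBlocks (Ev.Hm m F) 0 0 1

/-- the unitarity condition -/
def IsUo (σ : F →+* F) (M : Matrix (Idx m) (Idx m) F) : Prop :=
  Mᵀ * Jo m F * M.map σ = Jo m F

theorem isUo_one (σ : F →+* F) : IsUo σ (1 : Matrix (Idx m) (Idx m) F) := by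
  unfold IsUo
  rw [Matrix.transpose_one, Matrix.one_mul, Matrix.map_one σ (map_zero σ) (map_one σ), Matrix.mul_one]

theorem isUo_mul (σ : F →+* F) {M N : Matrix (Idx m) (Idx m) F} (hM : IsUo σ M)
    (hN : IsUo σ N) : IsUo σ (M * N) := by
  unfold IsUo at *
  rw [Matrix.transpose_mul, Matrix.map_mul]
  calc Nᵀ * Mᵀ * Jo m F * (M.map σ * N.map σ)
      = Nᵀ * (Mᵀ * Jo m F * M.map σ) * N.map σ := by simp only [Matrix.mul_assoc]
    _ = Jo m F := by rw [hM, hN]

theorem isUo_inv (σ : F →+* F) {M N : Matrix (Idx m) (Idx m) F} (hM : IsUo σ M)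
    (hMN : M * N = 1) : IsUo σ N := by
  unfold IsUo at *
  have h1 : Nᵀ * Mᵀ = 1 := by rw [← Matrix.transpose_mul, hMN, Matrix.transpose_one]
  have h2 : M.map σ * N.map σ = 1 := by
    rw [← Matrix.map_mul, hMN, Matrix.map_one σ (map_zero σ) (map_one σ)]
  calc Nᵀ * Jo m F * N.map σ = Nᵀ * (Mᵀ * Jo m F * M.map σ) * N.map σ := by rw [hM]
    _ = (Nᵀ * Mᵀ) * Jo m F * (M.map σ * N.map σ) := by simp only [Matrix.mul_assoc]
    _ = Jo m F := by rw [h1, h2, Matrix.one_mul, Matrix.mul_one]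

/-- the special unitary group of the form `Jo` on `F^m ⊕ F^m ⊕ F` -/
def SUo (m : ℕ) (σ : F →+* F) : Subgroup (SpecialLinearGroup (Idx m) F) where
  carrier := {g | IsUo σ g.1}
  one_mem' := isUo_one σ
  mul_mem' := fun {a b} ha hb => by
    change IsUo σ (a.1 * b.1)
    exact isUo_mul σ ha hb
  inv_mem' := fun {a} ha => by
    change IsUo σ (a⁻¹).1
    apply isUo_inv σ ha
    have h : (a * a⁻¹).1 = 1 := by rw [mul_inv_cancel]; rfl
    exact h

/-- the matrix of an element -/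
abbrev mat {σ : F →+* F} (g : SUo m σ) : Matrix (Idx m) (Idx m) F := g.1.1

theorem mat_mul {σ : F →+* F} (g h : SUo m σ) : mat (g * h) = mat g * mat h := rfl

theorem mat_one {σ : F →+* F} : mat (1 : SUo m σ) = 1 := rfl

theorem mat_injective {σ : F →+* F} : Function.Injective (mat : SUo m σ → _) :=
  fun _ _ h => Subtype.ext (Subtype.ext h)

theorem isUo_mat {σ : F →+* F} (g : SUo m σ) : IsUo σ (mat g) := g.2

theorem det_mat {σ : F →+* F} (g : SUo m σ) : (mat g).det = 1 := g.1.2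

theorem mat_mul_inv {σ : F →+* F} (g : SUo m σ) : mat g * mat g⁻¹ = 1 := by
  rw [← mat_mul, mul_inv_cancel, mat_one]

theorem mat_inv_mul {σ : F →+* F} (g : SUo m σ) : mat g⁻¹ * mat g = 1 := by
  rw [← mat_mul, inv_mul_cancel, mat_one]

/-- an element from a matrix satisfying the conditions (`1` if they fail) -/
noncomputable def ofMat (σ : F →+* F) (M : Matrix (Idx m) (Idx m) F) : SUo m σ :=
  open Classical in
  if h : M.det = 1 ∧ IsUo σ M then ⟨⟨M, h.1⟩, h.2⟩ else 1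

theorem mat_ofMat (σ : F →+* F) {M : Matrix (Idx m) (Idx m) F} (hd : M.det = 1)
    (hU : IsUo σ M) : mat (ofMat σ M) = M := by
  unfold ofMat
  rw [dif_pos ⟨hd, hU⟩]

/-! ### the embedding of `SUe m σ` -/

/-- `M ↦ [[M, 0], [0, 1]]` -/
def embM (M : Matrix (Fin m ⊕ Fin m) (Fin m ⊕ Fin m) F) : Matrix (Idx m) (Idx m) F :=
  fromBlocks M 0 0 1

theorem embM_mul (M N : Matrix (Fin m ⊕ Fin m) (Fin m ⊕ Fin m) F) :
    embM (M * N) = embM M * embM N := by
  unfold embM
  rw [Matrix.fromBlocks_multiply]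
  simp

theorem embM_one : embM (1 : Matrix (Fin m ⊕ Fin m) (Fin m ⊕ Fin m) F) = 1 := by
  unfold embM
  exact Matrix.fromBlocks_one

theorem det_embM (M : Matrix (Fin m ⊕ Fin m) (Fin m ⊕ Fin m) F) : (embM M).det = M.det := by
  unfold embM
  rw [Matrix.det_fromBlocks_zero₂₁, Matrix.det_one, mul_one]

theorem isUo_embM (σ : F →+* F) {M : Matrix (Fin m ⊕ Fin m) (Fin m ⊕ Fin m) F} (hM : Ev.IsU σ M) :
    IsUo σ (embM M) := by
  unfold IsUo Jo embM
  unfold Ev.IsU at hM
  rw [Matrix.fromBlocks_transpose, Matrix.fromBlocks_map, Matrix.fromBlocks_multiply,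
    Matrix.fromBlocks_multiply]
  simp only [Matrix.transpose_zero, Matrix.transpose_one, Matrix.mul_zero, Matrix.zero_mul,
    Matrix.mul_one, add_zero, zero_add, Matrix.map_zero σ (map_zero σ),
    Matrix.map_one σ (map_zero σ) (map_one σ)]
  rw [hM]

/-- the embedding `g ↦ [[g, 0], [0, 1]]` of `SU_{2m}` as the stabiliser of `w` -/
def emb (σ : F →+* F) : Ev.SUe m σ →* SUo m σ where
  toFun g := ⟨⟨embM (Ev.mat g), by rw [det_embM]; exact g.1.2⟩, isUo_embM σ g.2⟩
  map_one' := by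
    apply mat_injective
    change embM (1 : Matrix (Fin m ⊕ Fin m) (Fin m ⊕ Fin m) F) = 1
    exact embM_one
  map_mul' g h := by
    apply mat_injective
    change embM (Ev.mat g * Ev.mat h) = embM (Ev.mat g) * embM (Ev.mat h)
    exact embM_mul _ _

theorem mat_emb {σ : F →+* F} (g : Ev.SUe m σ) : mat (emb σ g) = embM (Ev.mat g) := rfl

/-! ### the elements `qO σ y B` and `tO σ d` -/

/-- the column `[y, 0]ᵀ` -/
def colE (y : Fin m → F) : Matrix (Fin m ⊕ Fin m) Unit F := Matrix.of fun a _ => Sum.elim y 0 a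

/-- the row `[0, z]` -/
def rowF (z : Fin m → F) : Matrix Unit (Fin m ⊕ Fin m) F := Matrix.of fun _ a => Sum.elim 0 z a

/-- the condition `σ(B) + Bᵀ + σ(y) yᵀ = 0` on `(y, B)` -/
def QP (σ : F →+* F) (y : Fin m → F) (B : Matrix (Fin m) (Fin m) F) : Prop :=
  B.map σ + Bᵀ + Matrix.vecMulVec (fun i => σ (y i)) y = 0

/-- the matrix `[[1, B, y], [0, 1, 0], [0, -σ(y)ᵀ, 1]]` -/
def qM (σ : F →+* F) (y : Fin m → F) (B : Matrix (Fin m) (Fin m) F) : Matrix (Idx m) (Idx m) F :=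
  fromBlocks (Ev.qM B) (colE y) (rowF fun i => -σ (y i)) 1

/-- the element `[[1, B, y], [0, 1, 0], [0, -σ(y)ᵀ, 1]]` (`1` if `QP σ y B` fails) -/
noncomputable def qO (σ : F →+* F) (y : Fin m → F) (B : Matrix (Fin m) (Fin m) F) : SUo m σ :=
  ofMat σ (qM σ y B)

/-- the eigenvalue of `tO σ d` on `w` -/
noncomputable def cw (σ : F →+* F) (d : Fin m → F) : F := (∏ i, σ (d i)) * (∏ i, d i)⁻¹

/-- the matrix `diag (d, σ(d)⁻¹, cw σ d)` -/
noncomputable def tM (σ : F →+* F) (d : Fin m → F) : Matrix (Idx m) (Idx m) F :=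
  fromBlocks (Ev.iM (Matrix.diagonal d) (Matrix.diagonal fun i => (σ (d i))⁻¹)) 0 0
    (Matrix.diagonal fun _ => cw σ d)

/-- the diagonal element `diag (d, σ(d)⁻¹, cw σ d)` (meant for `d i ≠ 0`) -/
noncomputable def tO (σ : F →+* F) (d : Fin m → F) : SUo m σ := ofMat σ (tM σ d)

/-- the Levi element `diag (A, σ(A⁻¹)ᵀ, 1)` -/
noncomputable def iO (σ : F →+* F) (A : SpecialLinearGroup (Fin m) F) : SUo m σ := emb σ (Ev.iE σ A)

/-- the root element `iO σ (1 + a E_ij)` -/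
noncomputable def xO (σ : F →+* F) (i j : Fin m) (a : F) : SUo m σ := emb σ (Ev.xE σ i j a)

/-! ### subgroups -/

/-- the unipotent radical of the stabiliser of `⟨e_1, …, e_m⟩` -/
def Qsub (m : ℕ) (σ : F →+* F) : Subgroup (SUo m σ) :=
  Subgroup.closure {g | ∃ (y : Fin m → F) (B : Matrix (Fin m) (Fin m) F), g = qO σ y B}

/-- the centre of `Qsub`: the elements `qO σ 0 B` -/
def Zsub (m : ℕ) (σ : F →+* F) : Subgroup (SUo m σ) := (Ev.Qsub m σ).map (emb σ)

/-- the unipotent radical of the Borel subgroup of the Levi subgroup `SL_m` -/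
def USsub (m : ℕ) (σ : F →+* F) : Subgroup (SUo m σ) := (Ev.USsub m σ).map (emb σ)

/-- the stabiliser of `w`, a copy of `SU_{2m}` -/
def Hsub (m : ℕ) (σ : F →+* F) : Subgroup (SUo m σ) := (emb σ).range

/-- the unipotent radical of the Borel subgroup -/
def Usub (m : ℕ) (σ : F →+* F) : Subgroup (SUo m σ) := Qsub m σ ⊔ USsub m σ

/-- the diagonal subgroup -/
def Tsub (m : ℕ) (σ : F →+* F) : Subgroup (SUo m σ) where
  carrier := {g | ∀ a b, a ≠ b → mat g a b = 0}
  one_mem' := fun a b hab => by rw [mat_one, Matrix.one_apply_ne hab]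
  mul_mem' := fun {x y} hx hy a b hab => by
    rw [mat_mul, Matrix.mul_apply]
    apply Finset.sum_eq_zero
    intro c _
    by_cases hac : a = c
    · subst hac
      rw [hy a b hab, mul_zero]
    · rw [hx a c hac, zero_mul]
  inv_mem' := fun {x} hx a b hab => by
    have hd : mat x = Matrix.diagonal fun i => mat x i i := by
      ext i j
      by_cases hij : i = j
      · subst hij; simp
      · rw [hx i j hij, Matrix.diagonal_apply_ne _ hij]
    have h1 : mat x * mat x⁻¹ = 1 := mat_mul_inv x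
    have h2 := congrFun (congrFun h1 a) b
    rw [hd, Matrix.diagonal_mul, Matrix.one_apply_ne hab] at h2
    have h3 : mat x a a ≠ 0 := by
      intro h0
      have h4 := congrFun (congrFun h1 a) a
      rw [hd, Matrix.diagonal_mul, Matrix.one_apply_eq, h0, zero_mul] at h4
      exact zero_ne_one h4
    exact (mul_eq_zero.mp h2).resolve_left h3

/-- the elements of `Qsub` whose `y`-part is supported on the coordinate `i` -/
def Yset (σ : F →+* F) (i : Fin m) : Set (SUo m σ) :=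
  {g | ∃ (y : Fin m → F) (B : Matrix (Fin m) (Fin m) F), QP σ y B ∧ (∀ l, l ≠ i → y l = 0) ∧
    g = qO σ y B}

/-- the root subgroups of `Zsub`: long ones for `r.1 = r.2`, short ones otherwise -/
def Xr (σ : F →+* F) (r : Fin m × Fin m) : Subgroup (SUo m σ) :=
  if r.1 = r.2 then (Ev.Xl σ r.1).map (emb σ)
  else Subgroup.closure {g | ∃ t : F, g = emb σ (Ev.cE σ r.1 r.2 t)}

/-- the generators of `USsub` -/
def Sgen (m : ℕ) (σ : F →+* F) : Set (SUo m σ) :=
  {g | ∃ i j : Fin m, i < j ∧ ∃ a : F, g = xO σ i j a}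

/-- the part of the torus centralising `xO σ i j a` -/
def Tij (σ : F →+* F) (i j : Fin m) : Subgroup (SUo m σ) :=
  Tsub m σ ⊓ Subgroup.centralizer (Set.range (xO σ i j))

end Cfsg.Agent.Helper58.PsuIo.Od
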