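import Cfsg.Agent.Helper58.PsuIo.AbsDefs
import Cfsg.Agent.Helper30.PsuM_PCRIT
import Cfsg.Agent.Helper59.PsuM_ASM
import Cfsg.Agent.Helper59.PsuM_CPLG
import Cfsg.Agent.Helper65.PsuM_INV
import Cfsg.Agent.Helper10.PsuM_NRM
import Cfsg.Agent.Helper30.PsuIo_AHT
import Cfsg.Agent.Helper30.PsuIo_ASUB
import Cfsg.Agent.Helper58.PsuIo.AO1Core
import Cfsg.Agent.Helper89.PsuIo_AO2
import Cfsg.Agent.Helper37.PsuIo_AO3b
import Cfsg.Agent.Helper37.PsuIo_AO3c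

/-!
# S2089 block I-odd, ABSTRACT part: the two glue theorems

`noStemP_of_siegelCore`: the generic machine with the lifts `Zt`, `USt` as an input;
`noStemP_of_siegelData`: the lifts come from a perfect, centrally closed subgroup `H`.
Pieces: (AHT), (ASUB) helper30; (AO1) helper50 (copied to `AO1Core` for `SiegelCore`), (AO2) helper89; (AO3b), (AO3c) helper37; block R pieces (PCRIT) helper30,
(CPLG), (ASM) helper59, (INV) helper65, (NRM) helper10.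
-/

set_option autoImplicit false

namespace Cfsg.Agent.Helper58.PsuIo

open scoped commutatorElement
open Cfsg.Agent.Helper43.PsuM Cfsg.Agent.Helper96.StLift
open Cfsg.Agent.Helper30.PsuIo Cfsg.Agent.Helper58.PsuIo.AO1c Cfsg.Agent.Helper89.PsuIo Cfsg.Agent.Helper37.PsuIo

universe u

/-- the abstract theorem of block I-odd with the lifts `Zt` of `Z` and `USt` of `US` as an input (for the
generic case they come from `H`, see `noStemP_of_siegelData`; for the special cases they are built by hand) -/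
theorem noStemP_of_siegelCore {G : Type u} [Group G] [Finite G] (p : ℕ) [Fact p.Prime]
    (D : SiegelCore G p)
    (hin : ∀ (Γ : Type u) [Group Γ] [Finite Γ] (τ : Γ →* G), Cfsg.IsStemExtension τ →
      Nat.card τ.ker = p → ∃ Zt USt : Subgroup Γ, Zt ⊓ τ.ker = ⊥ ∧ Zt.map τ = D.Z ∧
        (∀ g : Γ, τ g ∈ D.T → ∀ z ∈ Zt, g * z * g⁻¹ ∈ Zt) ∧
        (∀ g : Γ, τ g ∈ D.L → ∀ z ∈ Zt, g * z * g⁻¹ ∈ Zt) ∧
        USt ⊓ τ.ker = ⊥ ∧ USt.map τ = D.US ∧
        (∀ g : Γ, τ g ∈ D.T → ∀ w ∈ USt, g * w * g⁻¹ ∈ USt)) :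
    NoStemP G p := by
  have hp : p.Prime := Fact.out
  have hUT : ∀ t ∈ D.T, ∀ x ∈ D.U, t * x * t⁻¹ ∈ D.U := by
    intro t ht x hx
    rw [← D.U_eq] at hx ⊢
    have hle : D.Q ⊔ D.US ≤ (D.Q ⊔ D.US).comap (MulAut.conj t).toMonoidHom := by
      rw [sup_le_iff]
      constructor
      · intro y hy
        rw [Subgroup.mem_comap]
        exact Subgroup.mem_sup_left (D.T_Q t ht y hy)
      · intro y hy
        rw [Subgroup.mem_comap]
        exact Subgroup.mem_sup_right (D.T_US t ht y hy)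
    exact hle hx
  refine Cfsg.Agent.Helper30.PsuM.noStemP_of_borel_complement p D.U D.T D.T_comm D.T_card hUT
    D.idx ?_
  intro Γ _ _ τ hstem hcard
  obtain ⟨Zt, USt, hZt1, hZt2, hTZt, hLZt, hUSt1, hUSt2, hTUSt⟩ := hin Γ τ hstem hcard
  obtain ⟨hτ, hc, -⟩ := hstem
  have hcen : ∀ a ∈ τ.ker, ∀ g : Γ, g * a = a * g := fun a ha g =>
    Subgroup.mem_center_iff.1 (hc ha) g
  have hconj : ∀ g x : Γ, τ (g * x * g⁻¹) = τ g * τ x * (τ g)⁻¹ := by
    intro g x; rw [map_mul, map_mul, map_inv]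
  have hUSZt : ∀ g ∈ USt, ∀ z ∈ Zt, g * z * g⁻¹ ∈ Zt := by
    intro g hg z hz
    apply hLZt g _ z hz
    apply D.US_le_L
    rw [← hUSt2]
    exact Subgroup.mem_map_of_mem τ hg
  have hcent := commute_comap_Q_comap_Z τ hτ hc D Zt hZt1 hZt2
  have hQQ := commutator_comap_Q_le τ hτ hc D Zt hZt1 hZt2 hcent hTZt hLZt
  obtain ⟨M, hMdef⟩ : ∃ M : Subgroup Γ, M = D.Q.comap τ := ⟨_, rfl⟩
  rw [← hMdef] at hQQ
  have hDM : Zt ≤ M := by
    intro z hz
    rw [hMdef, Subgroup.mem_comap]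
    apply D.Z_le_Q
    rw [← hZt2]
    exact Subgroup.mem_map_of_mem τ hz
  have hAM : τ.ker ≤ M := by
    intro a ha
    rw [hMdef, Subgroup.mem_comap, MonoidHom.mem_ker.1 ha]
    exact one_mem _
  have hTM : ∀ g : Γ, τ g ∈ D.T → ∀ x ∈ M, g * x * g⁻¹ ∈ M := by
    intro g hg x hx
    rw [hMdef, Subgroup.mem_comap] at hx ⊢
    rw [hconj]
    exact D.T_Q _ hg _ hx
  have hcop : (Nat.card D.T).Coprime (Nat.card τ.ker) := by
    rw [hcard]
    exact ((Nat.Prime.coprime_iff_not_dvd hp).2 D.T_card).symm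
  have hC : (Zt ⊔ ⁅M, D.T.comap τ⁆) ⊓ τ.ker = ⊥ :=
    Cfsg.Agent.Helper59.PsuM.comm_comap_inf_ker τ hτ hc M Zt D.T hDM hQQ hTM hTZt hcop hZt1
  have hCmap : (Zt ⊔ ⁅M, D.T.comap τ⁆).map τ = D.Q := by
    rw [hMdef]; exact map_C_eq τ hτ D Zt hZt2
  have hTC : ∀ g : Γ, τ g ∈ D.T → ∀ c ∈ Zt ⊔ ⁅M, D.T.comap τ⁆,
      g * c * g⁻¹ ∈ Zt ⊔ ⁅M, D.T.comap τ⁆ := by
    rw [hMdef]; exact conj_mem_C_of_T τ D Zt hTZt
  have hMmap : M.map τ = D.Q := by
    rw [hMdef]; exact Subgroup.map_comap_eq_self_of_surjective hτ D.Q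
  -- invariance of `C` under the elements above `US`
  have hUSC : ∀ g : Γ, τ g ∈ D.US → ∀ c ∈ Zt ⊔ ⁅M, D.T.comap τ⁆,
      g * c * g⁻¹ ∈ Zt ⊔ ⁅M, D.T.comap τ⁆ := by
    rw [D.S_gen]
    apply Cfsg.Agent.Helper10.PsuM.conj_mem_of_closure τ hτ hc _ D.S
    intro s hs
    have hsUS : s ∈ D.US := by rw [D.S_gen]; exact Subgroup.subset_closure hs
    rw [← hUSt2] at hsUS
    obtain ⟨g, hgUSt, rfl⟩ := hsUS
    refine ⟨g, rfl, ?_⟩
    obtain ⟨Hg, hHgT, hcomm, hfix⟩ := D.hO3 _ hs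
    have hgUS : τ g ∈ D.US := by rw [← hUSt2]; exact Subgroup.mem_map_of_mem τ hgUSt
    have hgM : ∀ x ∈ M, g * x * g⁻¹ ∈ M := by
      intro x hx
      rw [hMdef, Subgroup.mem_comap] at hx ⊢
      rw [hconj]
      exact D.L_Q _ (D.US_le_L hgUS) _ hx
    have hgen : M.map τ ≤ Zt.map τ ⊔ ⁅M.map τ, Hg⁆ ⊔ ⁅(⊥ : Subgroup G), D.T⁆ := by
      rw [hMmap, hZt2]
      refine le_trans D.Q_gen (le_trans ?_ le_sup_left)
      rw [sup_le_iff]
      refine ⟨le_sup_left, ?_⟩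
      rw [Subgroup.closure_le]
      intro x hx
      rw [Set.mem_iUnion] at hx
      obtain ⟨i, hxi⟩ := hx
      obtain ⟨h, hh, x', hx', z', hz', rfl⟩ := hfix i x hxi
      refine Subgroup.mul_mem _ (Subgroup.mem_sup_right ?_) (Subgroup.mem_sup_left hz')
      have h1 : ⁅h, x'⁆ = ⁅x', h⁆⁻¹ := (commutatorElement_inv x' h).symm
      rw [h1]
      exact Subgroup.inv_mem _ (Subgroup.commutator_mem_commutator hx' hh)
    refine Cfsg.Agent.Helper65.PsuM.conj_mem_comm_comap τ hτ hc M Zt D.T Hg ⊥ hDM hAM hHgT hTM hC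
      g hgM (hUSZt g hgUSt) hcomm bot_le ?_ ?_ hgen
    · intro t _ y hy
      rw [Subgroup.mem_bot] at hy ⊢
      rw [hy, mul_one, mul_inv_cancel]
    · intro y hy
      rw [Subgroup.mem_bot] at hy
      exact (hcen y (MonoidHom.mem_ker.2 hy) g)
  refine ⟨(Zt ⊔ ⁅M, D.T.comap τ⁆) ⊔ USt, ?_, ?_, ?_⟩
  · apply Cfsg.Agent.Helper59.PsuM.sup_inf_ker_eq_bot τ _ USt ?_ hC hUSt1
    · rw [hCmap, hUSt2]; exact D.Q_inf_US
    · intro w hw c hc'
      apply hUSC w _ c hc'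
      rw [← hUSt2]
      exact Subgroup.mem_map_of_mem τ hw
  · rw [Subgroup.map_sup, hCmap, hUSt2, D.U_eq]
  · intro g hg
    have hle : (Zt ⊔ ⁅M, D.T.comap τ⁆) ⊔ USt ≤
        ((Zt ⊔ ⁅M, D.T.comap τ⁆) ⊔ USt).comap (MulAut.conj g).toMonoidHom := by
      rw [sup_le_iff]
      constructor
      · intro c hc'
        rw [Subgroup.mem_comap]
        exact Subgroup.mem_sup_left (hTC g hg c hc')
      · intro w hw
        rw [Subgroup.mem_comap]
        exact Subgroup.mem_sup_right (hTUSt g hg w hw)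
    intro v hv
    exact hle hv

/-- the abstract theorem of block I-odd (generic case): the lifts come from the perfect, centrally closed `H` -/
theorem noStemP_of_siegelData {G : Type u} [Group G] [Finite G] (p : ℕ) [Fact p.Prime]
    (D : SiegelData G p) : NoStemP G p := by
  apply noStemP_of_siegelCore p D.toSiegelCore
  intro Γ _ _ τ hstem hcard
  obtain ⟨hτ, hc, -⟩ := hstem
  have hcen : ∀ a ∈ τ.ker, ∀ g : Γ, g * a = a * g := fun a ha g =>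
    Subgroup.mem_center_iff.1 (hc ha) g
  obtain ⟨Ht, hHt1, hHt2, hHt3⟩ := exists_Htilde τ hτ hc D.H D.H_perf D.H_univ
  have hconj : ∀ g x : Γ, τ (g * x * g⁻¹) = τ g * τ x * (τ g)⁻¹ := by
    intro g x; rw [map_mul, map_mul, map_inv]
  have hHtn : ∀ g ∈ Ht, ∀ x ∈ Ht, g * x * g⁻¹ ∈ Ht := fun g hg x hx =>
    Ht.mul_mem (Ht.mul_mem hg hx) (Ht.inv_mem hg)
  refine ⟨Ht ⊓ D.Z.comap τ, Ht ⊓ D.US.comap τ, ?_, ?_, ?_, ?_, ?_, ?_, ?_⟩
  · rw [eq_bot_iff, ← hHt1]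
    exact inf_le_inf_right _ inf_le_left
  · exact map_inf_comap τ Ht D.H D.Z hHt2 D.Z_le_H
  · intro g hg z hz
    refine ⟨hHt3 g (D.T_H _ hg) z hz.1, ?_⟩
    change τ (g * z * g⁻¹) ∈ D.Z
    rw [hconj]
    exact D.T_Z _ hg _ hz.2
  · intro g hg z hz
    have hgH : τ g ∈ Ht.map τ := by rw [hHt2]; exact D.L_le_H hg
    obtain ⟨h, hh, hhg⟩ := hgH
    have ha : h⁻¹ * g ∈ τ.ker := by
      rw [MonoidHom.mem_ker, map_mul, map_inv, hhg, inv_mul_cancel]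
    have hga : g * z * g⁻¹ = h * z * h⁻¹ := by
      have h2 := hcen _ ha z
      have h3 : g * z * g⁻¹ = h * ((h⁻¹ * g) * z * (h⁻¹ * g)⁻¹) * h⁻¹ := by group
      rw [h3, ← h2, mul_inv_cancel_right]
    rw [hga]
    refine ⟨hHtn h hh z hz.1, ?_⟩
    change τ (h * z * h⁻¹) ∈ D.Z
    rw [hconj, hhg]
    exact D.L_Z _ hg _ hz.2
  · rw [eq_bot_iff, ← hHt1]
    exact inf_le_inf_right _ inf_le_left
  · exact map_inf_comap τ Ht D.H D.US hHt2 (le_trans D.US_le_L D.L_le_H)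
  · intro g hg w hw
    refine ⟨hHt3 g (D.T_H _ hg) w hw.1, ?_⟩
    change τ (g * w * g⁻¹) ∈ D.US
    rw [hconj]
    exact D.T_US _ hg _ hw.2

end Cfsg.Agent.Helper58.PsuIo
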